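import Groth.Agent.L00.NagataNorm
import Groth.Agent.L01.NagataComplete
import Mathlib.RingTheory.Etale.Field
import Mathlib.RingTheory.Unramified.Field
import Mathlib.RingTheory.Flat.TorsionFree
import Mathlib.RingTheory.Flat.FaithfullyFlat.Algebra
import Mathlib.RingTheory.Finiteness.Descent
import Mathlib.RingTheory.Localization.BaseChange
import Mathlib.RingTheory.Artinian.Module

/-! # The Nagata property descends along extensions of DVRs with separable fraction field extension -/

set_option autoImplicit false
set_option linter.style.haveILetI false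

universe u

open TensorProduct IsLocalRing

namespace Groth.L05.NagataDVR

/-- A separable algebraic extension stays reduced after any field extension. -/
theorem isReduced_tensor (K L E : Type u) [Field K] [Field L] [Field E] [Algebra K L] [Algebra K E]
    [Algebra.IsSeparable K L] : IsReduced (E ⊗[K] L) := by
  refine IsReduced.tensorProduct_of_flat_of_forall_fg fun B hB => ?_
  obtain ⟨s, hs⟩ := hB
  let F := IntermediateField.adjoin K (s : Set L)
  haveI : FiniteDimensional K F :=
    IntermediateField.finiteDimensional_adjoin fun x _ => Algebra.IsIntegral.isIntegral x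
  haveI : Algebra.IsSeparable K F := Algebra.isSeparable_tower_bot_of_isSeparable K F L
  haveI : Algebra.FormallyUnramified K F := Algebra.FormallyUnramified.of_isSeparable K F
  haveI : IsReduced (E ⊗[K] F) := Algebra.FormallyUnramified.isReduced_of_field E (E ⊗[K] F)
  have hle : B ≤ F.toSubalgebra := hs ▸ IntermediateField.algebra_adjoin_le_adjoin K (s : Set L)
  exact isReduced_of_injective (Algebra.TensorProduct.map (AlgHom.id K E) (Subalgebra.inclusion hle))
    (Module.Flat.lTensor_preserves_injective_linearMap (M := E) (Subalgebra.inclusion hle).toLinearMap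
      (Subalgebra.inclusion_injective hle))

variable (A B K L : Type u) [CommRing A] [IsDomain A] [IsDiscreteValuationRing A]
    [CommRing B] [IsDomain B] [IsDiscreteValuationRing B] [Algebra A B] [IsLocalHom (algebraMap A B)]
    [Field K] [Field L] [Algebra A K] [IsFractionRing A K] [Algebra B L] [IsFractionRing B L]
    [Algebra K L] [Algebra A L] [IsScalarTower A K L] [IsScalarTower A B L] [Algebra.IsSeparable K L]

include L in
theorem finite_integralClosure (hinj : Function.Injective (algebraMap A B)) (hB : CAlg.IsNagata B)
    (K' : Type u) [Field K'] [Algebra A K'] [Algebra K K'] [IsScalarTower A K K'] [FiniteDimensional K K'] :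
    Module.Finite A (integralClosure A K') := by
  classical
  haveI : FaithfulSMul A B := (faithfulSMul_iff_algebraMap_injective A B).mpr hinj
  haveI : Module.Flat A B := inferInstance
  haveI : Module.FaithfullyFlat A B := Module.FaithfullyFlat.of_flat_of_isLocalHom
  haveI : Module.Flat A K := IsLocalization.flat K (nonZeroDivisors A)
  haveI : Module.Flat A K' := Module.Flat.trans A K K'
  let T := L ⊗[K] K'
  haveI : IsReduced T := by
    haveI := isReduced_tensor K L K'
    exact isReduced_of_injective (Algebra.TensorProduct.comm K L K') (AlgEquiv.injective _)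
  haveI : IsArtinianRing T := IsArtinianRing.of_finite L T
  haveI : Finite (MaximalSpectrum T) := inferInstance
  letI : ∀ m : MaximalSpectrum T, Field (T ⧸ m.asIdeal) := fun m =>
    haveI := m.isMaximal
    Ideal.Quotient.field m.asIdeal
  letI : Algebra B T := ((algebraMap L T).comp (algebraMap B L)).toAlgebra
  have hfin : Module.Finite B (integralClosure B T) := by
    refine Groth.L00.NagataNorm.finite_integralClosure_of_fields hB (fun m : MaximalSpectrum T => T ⧸ m.asIdeal)
      (fun m => Ideal.Quotient.mk m.asIdeal) (fun m => ?_) fun t ht => ?_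
    · have h1 : (algebraMap B L).EssFiniteType :=
        RingHom.essFiniteType_algebraMap.mpr (Algebra.EssFiniteType.of_isLocalization L (nonZeroDivisors B))
      have h2 : (algebraMap L T).EssFiniteType := RingHom.essFiniteType_algebraMap.mpr inferInstance
      exact (h1.comp h2).comp
        (RingHom.FiniteType.of_surjective (Ideal.Quotient.mk m.asIdeal) Ideal.Quotient.mk_surjective).essFiniteType
    · have h1 : t ∈ nilradical T := by
        rw [nilradical_eq_sInf]
        refine Ideal.mem_sInf.mpr fun {P} hP => ?_
        haveI : P.IsPrime := hP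
        exact Ideal.Quotient.eq_zero_iff_mem.mp (ht ⟨P, IsArtinianRing.isMaximal_of_isPrime P⟩)
      rwa [nilradical_eq_zero, Ideal.zero_eq_bot, Ideal.mem_bot] at h1
  haveI : TensorProduct.CompatibleSMul A K L K' :=
    IsLocalization.tensorProduct_compatibleSMul (nonZeroDivisors A) K L K'
  let A' := integralClosure A K'
  let ι : B ⊗[A] A' →ₗ[A] L ⊗[A] K' :=
    TensorProduct.map (IsScalarTower.toAlgHom A B L).toLinearMap A'.val.toLinearMap
  have hι : Function.Injective ι := by
    have h1 : ι = ((IsScalarTower.toAlgHom A B L).toLinearMap.rTensor K').comp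
        (A'.val.toLinearMap.lTensor B) := by
      rw [LinearMap.rTensor_comp_lTensor]
    rw [h1]
    exact (Module.Flat.rTensor_preserves_injective_linearMap _ (IsFractionRing.injective B L)).comp
      (Module.Flat.lTensor_preserves_injective_linearMap _ Subtype.val_injective)
  letI : Algebra A T := ((algebraMap L T).comp (algebraMap A L)).toAlgebra
  let e := TensorProduct.equivOfCompatibleSMul A K A L K'
  let Φ : B ⊗[A] A' →ₗ[A] L ⊗[K] K' := e.symm.toLinearMap.comp ι
  have hΦ : ∀ (b : B) (x : A'), Φ (b ⊗ₜ x) = algebraMap B L b ⊗ₜ[K] (x : K') := fun _ _ => rfl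
  have hΦB : ∀ (b : B) z, Φ (b • z) = algebraMap B T b * Φ z := by
    intro b z
    induction z using TensorProduct.induction_on with
    | zero => simp
    | tmul c x =>
      rw [smul_tmul', hΦ, hΦ, RingHom.algebraMap_toAlgebra]
      show algebraMap B L (b * c) ⊗ₜ[K] (x : K') = (algebraMap B L b ⊗ₜ[K] (1 : K')) * _
      rw [Algebra.TensorProduct.tmul_mul_tmul, one_mul, map_mul]
    | add x y hx hy => rw [smul_add, map_add, map_add, hx, hy, mul_add]
  have hint : ∀ z, IsIntegral B (Φ z) := by
    intro z
    induction z using TensorProduct.induction_on with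
    | zero => rw [map_zero]; exact isIntegral_zero
    | tmul c x =>
      rw [hΦ]
      have h1 : IsIntegral B ((1 : L) ⊗ₜ[K] (x : K')) := by
        obtain ⟨p, hp, hpx⟩ := x.2
        refine ⟨p.map (algebraMap A B), hp.map _, ?_⟩
        rw [Polynomial.eval₂_map]
        have hc : (algebraMap B T).comp (algebraMap A B) =
            (Algebra.TensorProduct.includeRight : K' →ₐ[K] T).toRingHom.comp (algebraMap A K') := by
          ext a
          show algebraMap B L (algebraMap A B a) ⊗ₜ[K] (1 : K') = (1 : L) ⊗ₜ[K] algebraMap A K' a
          rw [← IsScalarTower.algebraMap_apply A B L, IsScalarTower.algebraMap_apply A K L,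
            IsScalarTower.algebraMap_apply A K K', Algebra.algebraMap_eq_smul_one, TensorProduct.smul_tmul,
            ← Algebra.algebraMap_eq_smul_one]
        rw [hc]
        exact (Polynomial.hom_eval₂ p (algebraMap A K')
          (Algebra.TensorProduct.includeRight : K' →ₐ[K] T).toRingHom (x : K')).symm.trans (by rw [hpx, map_zero])
      rw [show algebraMap B L c ⊗ₜ[K] (x : K') = algebraMap B T c * ((1 : L) ⊗ₜ[K] (x : K')) by
        rw [RingHom.algebraMap_toAlgebra]
        show _ = (algebraMap B L c ⊗ₜ[K] (1 : K')) * _
        rw [Algebra.TensorProduct.tmul_mul_tmul, one_mul, mul_one]]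
      exact isIntegral_algebraMap.mul h1
    | add x y hx hy => rw [map_add]; exact hx.add hy
  haveI := hfin
  haveI : IsNoetherianRing B := inferInstance
  let Ψ : B ⊗[A] A' →ₗ[B] integralClosure B T :=
    { toFun := fun z => ⟨Φ z, hint z⟩
      map_add' := fun x y => Subtype.ext (map_add Φ x y)
      map_smul' := fun b z => Subtype.ext (by
        exact (hΦB b z).trans (Algebra.smul_def b (Φ z)).symm) }
  haveI : Module.Finite B (B ⊗[A] A') := Module.Finite.of_injective Ψ fun x y h =>
    hι (e.symm.injective (congrArg Subtype.val h))
  exact Module.Finite.of_finite_tensorProduct_of_faithfullyFlat B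

include K L in
theorem result (hinj : Function.Injective (algebraMap A B)) (hB : CAlg.IsNagata B) : CAlg.IsNagata A := by
  refine ⟨inferInstance, fun p hp => ?_⟩
  by_cases h : p = ⊥
  · subst h
    have hN : CAlg.IsN2 A := by
      intro K' _ _ _ _ hfd
      haveI := hfd
      letI : Algebra K K' := ((algebraMap (FractionRing A) K').comp
        (FractionRing.algEquiv A K).symm.toRingHom).toAlgebra
      haveI : IsScalarTower A K K' := IsScalarTower.of_algebraMap_eq fun a => by
        show algebraMap A K' a = algebraMap (FractionRing A) K' ((FractionRing.algEquiv A K).symm (algebraMap A K a))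
        rw [AlgEquiv.commutes, ← IsScalarTower.algebraMap_apply]
      haveI : FiniteDimensional K K' := by
        refine ⟨?_⟩
        obtain ⟨s, hs⟩ := hfd.fg_top
        refine ⟨s, Submodule.eq_top_iff'.mpr fun x => ?_⟩
        have hx : x ∈ Submodule.span (FractionRing A) (s : Set K') := hs ▸ Submodule.mem_top
        induction hx using Submodule.span_induction with
        | mem y hy => exact Submodule.subset_span hy
        | zero => exact zero_mem _
        | add a b _ _ ha hb => exact add_mem ha hb
        | smul c y _ hy =>
          have h1 := Submodule.smul_mem _ (FractionRing.algEquiv A K c) hy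
          rw [Algebra.smul_def] at h1 ⊢
          rwa [RingHom.algebraMap_toAlgebra, RingHom.comp_apply,
            show (FractionRing.algEquiv A K).symm.toRingHom (FractionRing.algEquiv A K c) = c from
              (FractionRing.algEquiv A K).symm_apply_apply c] at h1
      exact finite_integralClosure A B K L hinj hB K'
    letI : Algebra A (A ⧸ (⊥ : Ideal A)) := Ideal.Quotient.algebra A
    exact Groth.L03.Japanese.isN2_of_bijective
      ⟨fun a b hab => sub_eq_zero.mp ((Ideal.mem_bot).mp (Ideal.Quotient.eq.mp hab)),
        Ideal.Quotient.mk_surjective⟩ hN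
  · haveI : p.IsMaximal := IsPrime.to_maximal_ideal h
    exact Groth.L01.NagataComplete.isN2_field _ ((Ideal.Quotient.maximal_ideal_iff_isField_quotient _).mp inferInstance)

end Groth.L05.NagataDVR
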